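import Mathlib
import Groth.Agent.HenselLib.FaithfulDescent

/-! Local noetherianity descends along flat, surjective, locally finitely presented morphisms. -/

universe u

open AlgebraicGeometry CategoryTheory Limits

namespace Groth.Agent.NoethDescentFppf

theorem isLocallyNoetherian_descend {Z W : Scheme.{u}} (a : Z ⟶ W) [Flat a] [LocallyOfFinitePresentation a]
    [Surjective a] [IsLocallyNoetherian Z] : IsLocallyNoetherian W := by
  have hex : ∀ w : W, ∃ D : W.affineOpens, w ∈ D.1 ∧ IsNoetherianRing Γ(W, D.1) := by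
    intro w
    obtain ⟨z, rfl⟩ := a.surjective w
    obtain ⟨_, ⟨(U : W.Opens), hU, rfl⟩, hzU, -⟩ :=
      W.isBasis_affineOpens.exists_subset_of_mem_open (Set.mem_univ (a z)) isOpen_univ
    obtain ⟨_, ⟨(V : Z.Opens), hV, rfl⟩, hzV, hVU⟩ :=
      Z.isBasis_affineOpens.exists_subset_of_mem_open (show z ∈ (a ⁻¹ᵁ U : Set Z) from hzU) (a ⁻¹ᵁ U).2
    obtain ⟨g, hgle, hg⟩ := hU.exists_basicOpen_le (V := ⟨a '' V, a.isOpenMap _ V.2⟩) ⟨a z, ⟨z, hzV, rfl⟩⟩ hzU
    refine ⟨⟨W.basicOpen g, hU.basicOpen g⟩, hg, ?_⟩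
    have hV' : IsAffineOpen (V ⊓ a ⁻¹ᵁ W.basicOpen g) := by
      rw [← Scheme.basicOpen_appLE a V U hVU g]
      exact hV.basicOpen _
    haveI : IsAffine (V ⊓ a ⁻¹ᵁ W.basicOpen g).toScheme := hV'
    haveI : IsAffine (W.basicOpen g).toScheme := hU.basicOpen g
    haveI : Surjective (a.resLE (W.basicOpen g) (V ⊓ a ⁻¹ᵁ W.basicOpen g) inf_le_right) := by
      refine ⟨fun p => ?_⟩
      obtain ⟨q, hq, hqp⟩ := hgle p.2
      refine ⟨⟨q, hq, show a q ∈ W.basicOpen g from hqp ▸ p.2⟩, ?_⟩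
      apply (W.basicOpen g).ι.isOpenEmbedding.injective
      rw [← Scheme.Hom.comp_apply, Scheme.Hom.resLE_comp_ι]
      exact hqp
    have hff : (a.resLE (W.basicOpen g) (V ⊓ a ⁻¹ᵁ W.basicOpen g) inf_le_right).appTop.hom.FaithfullyFlat :=
      (Flat.flat_and_surjective_iff_faithfullyFlat_of_isAffine _).1 ⟨inferInstance, inferInstance⟩
    have hn : IsNoetherianRing Γ((V ⊓ a ⁻¹ᵁ W.basicOpen g).toScheme, ⊤) :=
      IsLocallyNoetherian.component_noetherian ⟨⊤, isAffineOpen_top _⟩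
    letI := (a.resLE (W.basicOpen g) (V ⊓ a ⁻¹ᵁ W.basicOpen g) inf_le_right).appTop.hom.toAlgebra
    haveI : Module.FaithfullyFlat Γ((W.basicOpen g).toScheme, ⊤) Γ((V ⊓ a ⁻¹ᵁ W.basicOpen g).toScheme, ⊤) := hff
    haveI : IsNoetherianRing Γ((W.basicOpen g).toScheme, ⊤) :=
      HenselLib.isNoetherianRing_of_faithfullyFlat _ Γ((V ⊓ a ⁻¹ᵁ W.basicOpen g).toScheme, ⊤)
    exact isNoetherianRing_of_ringEquiv _ (W.basicOpen g).topIso.commRingCatIsoToRingEquiv
  choose D hD hN using hex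
  exact isLocallyNoetherian_of_affine_cover (S := D) (TopologicalSpace.Opens.ext (Set.eq_univ_of_forall fun w => TopologicalSpace.Opens.mem_iSup.2 ⟨w, hD w⟩)) hN

end Groth.Agent.NoethDescentFppf
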